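import Groth.Agent.S2082
import Groth.Agent.FlatLoc6.RegCM
import Groth.Agent.RegLoc6.Descent
import Groth.Agent.CohenLib.Structure

/-!
# Regular local homomorphisms
-/

set_option linter.style.haveILetI false

universe u

open IsLocalRing

namespace Groth.Agent.Cohen4

variable {A B : Type u} [CommRing A] [IsLocalRing A] [IsNoetherianRing A] [CommRing B] [IsLocalRing B]
  [IsNoetherianRing B] [Algebra A B] [IsLocalHom (algebraMap A B)]
  [IsLocalRing (B ⧸ (maximalIdeal A).map (algebraMap A B))]


theorem maximalIdeal_fibre : (maximalIdeal B).map (Ideal.Quotient.mk ((maximalIdeal A).map (algebraMap A B))) =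
    maximalIdeal (B ⧸ Ideal.map (algebraMap A B) (maximalIdeal A)) :=
  IsLocalRing.eq_maximalIdeal (Ideal.IsMaximal.map_of_surjective_of_ker_le Ideal.Quotient.mk_surjective
    (by rw [Ideal.mk_ker]; exact ((local_hom_TFAE (algebraMap A B)).out 0 2).1 ‹IsLocalHom (algebraMap A B)›))

omit [IsNoetherianRing A] in
theorem liesOver_maximal : (maximalIdeal B).LiesOver (maximalIdeal A) :=
  ⟨(((local_hom_TFAE (algebraMap A B)).out 0 4).1 ‹IsLocalHom (algebraMap A B)› :
    (maximalIdeal B).comap (algebraMap A B) = maximalIdeal A).symm⟩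

theorem dim_le : ringKrullDim B ≤ ringKrullDim A + ringKrullDim (B ⧸ Ideal.map (algebraMap A B) (maximalIdeal A)) := by
  haveI := liesOver_maximal (A := A) (B := B)
  have h := Ideal.height_le_height_add_of_liesOver (maximalIdeal A) (maximalIdeal B)
  rw [maximalIdeal_fibre] at h
  rw [← maximalIdeal_height_eq_ringKrullDim, ← maximalIdeal_height_eq_ringKrullDim,
    ← maximalIdeal_height_eq_ringKrullDim (R := (B ⧸ Ideal.map (algebraMap A B) (maximalIdeal A))), ← WithBot.coe_add, WithBot.coe_le_coe]
  exact h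

theorem dim_eq_of_flat [Module.Flat A B] : ringKrullDim B = ringKrullDim A + ringKrullDim (B ⧸ Ideal.map (algebraMap A B) (maximalIdeal A)) := by
  haveI := liesOver_maximal (A := A) (B := B)
  have h := Ideal.height_eq_height_add_of_liesOver_of_hasGoingDown (maximalIdeal A) (maximalIdeal B)
  rw [maximalIdeal_fibre] at h
  rw [← maximalIdeal_height_eq_ringKrullDim, ← maximalIdeal_height_eq_ringKrullDim,
    ← maximalIdeal_height_eq_ringKrullDim (R := (B ⧸ Ideal.map (algebraMap A B) (maximalIdeal A))), ← WithBot.coe_add, WithBot.coe_inj]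
  exact h

theorem spanFinrank_le_add :
    (maximalIdeal B).spanFinrank ≤ (maximalIdeal A).spanFinrank + (maximalIdeal (B ⧸ Ideal.map (algebraMap A B) (maximalIdeal A))).spanFinrank := by
  classical
  obtain ⟨s, hsc, hs⟩ := Submodule.FG.exists_span_finset_card_eq_spanFinrank (IsNoetherian.noetherian (maximalIdeal A))
  obtain ⟨t, htc, ht⟩ := Submodule.FG.exists_span_finset_card_eq_spanFinrank (IsNoetherian.noetherian (maximalIdeal (B ⧸ Ideal.map (algebraMap A B) (maximalIdeal A))))
  choose l hl using fun y : (B ⧸ Ideal.map (algebraMap A B) (maximalIdeal A)) => Ideal.Quotient.mk_surjective y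
  let T : Finset B := s.image (algebraMap A B) ∪ t.image l
  have hT : maximalIdeal B = Ideal.span (T : Set B) := by
    refine le_antisymm (fun x hx => ?_) (Ideal.span_le.2 fun x hx => ?_)
    · have h1 : Ideal.Quotient.mk _ x ∈ maximalIdeal (B ⧸ Ideal.map (algebraMap A B) (maximalIdeal A)) := maximalIdeal_fibre.le (Ideal.mem_map_of_mem _ hx)
      rw [← ht] at h1
      change _ ∈ Ideal.span (t : Set (B ⧸ Ideal.map (algebraMap A B) (maximalIdeal A))) at h1
      have h2 : Ideal.span (t : Set (B ⧸ Ideal.map (algebraMap A B) (maximalIdeal A))) =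
          (Ideal.span (l '' t : Set B)).map (Ideal.Quotient.mk ((maximalIdeal A).map (algebraMap A B))) := by
        rw [Ideal.map_span, ← Set.image_comp, show Ideal.Quotient.mk _ ∘ l = id from funext hl, Set.image_id]
      rw [h2, ← Ideal.mem_comap, Ideal.comap_map_of_surjective' _ Ideal.Quotient.mk_surjective, Ideal.mk_ker] at h1
      refine (sup_le (Ideal.span_mono ?_) ?_ : _ ≤ Ideal.span (T : Set B)) h1
      · simp [T]
      · rw [← hs]
        show (Ideal.span (s : Set A)).map _ ≤ _
        rw [Ideal.map_span]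
        exact Ideal.span_mono (by simp [T])
    · simp only [T, Finset.coe_union, Finset.coe_image, Set.mem_union, Set.mem_image] at hx
      rcases hx with ⟨a, ha, rfl⟩ | ⟨y, hy, rfl⟩
      · exact (((local_hom_TFAE (algebraMap A B)).out 0 2).1 ‹IsLocalHom (algebraMap A B)› : (maximalIdeal A).map (algebraMap A B) ≤ maximalIdeal B)
          (Ideal.mem_map_of_mem _ (hs ▸ Submodule.subset_span ha))
      · have h1 : y ∈ maximalIdeal (B ⧸ Ideal.map (algebraMap A B) (maximalIdeal A)) := ht ▸ Submodule.subset_span hy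
        rw [← hl y] at h1
        rw [SetLike.mem_coe, mem_maximalIdeal, mem_nonunits_iff]
        exact fun hu => (mem_maximalIdeal _).1 h1 (hu.map _)
  rw [hT]
  refine (Submodule.spanFinrank_span_le_ncard_of_finite T.finite_toSet).trans ?_
  rw [Set.ncard_coe_finset]
  exact (Finset.card_union_le _ _).trans
    (add_le_add (Finset.card_image_le.trans hsc.le) (Finset.card_image_le.trans htc.le))

theorem regularHom_tfae :
    [IsRegularLocalRing B ∧
       Module.finrank (ResidueField B) (CotangentSpace B) =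
         Module.finrank (ResidueField A) (CotangentSpace A) +
           Module.finrank (ResidueField (B ⧸ Ideal.map (algebraMap A B) (maximalIdeal A))) (CotangentSpace (B ⧸ Ideal.map (algebraMap A B) (maximalIdeal A))),
     IsRegularLocalRing B ∧ IsRegularLocalRing (B ⧸ Ideal.map (algebraMap A B) (maximalIdeal A)) ∧ Module.Flat A B,
     IsRegularLocalRing A ∧ IsRegularLocalRing (B ⧸ Ideal.map (algebraMap A B) (maximalIdeal A)) ∧ Module.Flat A B,
     IsRegularLocalRing A ∧ IsRegularLocalRing (B ⧸ Ideal.map (algebraMap A B) (maximalIdeal A)) ∧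
       ringKrullDim B = ringKrullDim A + ringKrullDim (B ⧸ Ideal.map (algebraMap A B) (maximalIdeal A))].TFAE := by
  tfae_have 2 → 3 := by
    rintro ⟨h1, h2, h3⟩
    exact ⟨RegLoc6.isRegularLocalRing_of_flat (B := B), h2, h3⟩
  tfae_have 3 → 4 := by
    rintro ⟨h1, h2, h3⟩
    exact ⟨h1, h2, dim_eq_of_flat⟩
  tfae_have 4 → 1 := by
    rintro ⟨h1, h2, h3⟩
    rw [(isRegularLocalRing_iff A).1 h1 |>.symm, (isRegularLocalRing_iff (B ⧸ Ideal.map (algebraMap A B) (maximalIdeal A))).1 h2 |>.symm] at h3
    have h4 := spanFinrank_le_add (A := A) (B := B)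
    haveI hB : IsRegularLocalRing B := IsRegularLocalRing.of_spanFinrank_maximalIdeal_le B (by
      rw [h3, ← Nat.cast_add]
      exact Nat.cast_le.2 h4)
    refine ⟨hB, ?_⟩
    rw [(isRegularLocalRing_iff B).1 hB |>.symm, ← Nat.cast_add, Nat.cast_inj] at h3
    rw [← spanFinrank_maximalIdeal_eq_finrank_cotangentSpace, ← spanFinrank_maximalIdeal_eq_finrank_cotangentSpace,
      ← spanFinrank_maximalIdeal_eq_finrank_cotangentSpace]
    exact h3
  tfae_have 1 → 2 := by
    rintro ⟨hB, heq⟩
    rw [← spanFinrank_maximalIdeal_eq_finrank_cotangentSpace, ← spanFinrank_maximalIdeal_eq_finrank_cotangentSpace,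
      ← spanFinrank_maximalIdeal_eq_finrank_cotangentSpace] at heq
    obtain ⟨a, -, -, hda, -⟩ := CohenLib.exists_fin_sop A
    obtain ⟨b, -, -, hdb, -⟩ := CohenLib.exists_fin_sop (B ⧸ Ideal.map (algebraMap A B) (maximalIdeal A))
    have h1 := dim_le (A := A) (B := B)
    rw [← (isRegularLocalRing_iff B).1 hB, hda, hdb, ← Nat.cast_add, Nat.cast_le] at h1
    have ha := ringKrullDim_le_spanFinrank_maximalIdeal A
    have hb := ringKrullDim_le_spanFinrank_maximalIdeal (B ⧸ Ideal.map (algebraMap A B) (maximalIdeal A))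
    rw [hda, Nat.cast_le] at ha
    rw [hdb, Nat.cast_le] at hb
    haveI hA : IsRegularLocalRing A := (isRegularLocalRing_iff A).2 (by rw [hda, Nat.cast_inj]; omega)
    haveI hB0 : IsRegularLocalRing (B ⧸ Ideal.map (algebraMap A B) (maximalIdeal A)) := (isRegularLocalRing_iff (B ⧸ Ideal.map (algebraMap A B) (maximalIdeal A))).2 (by rw [hdb, Nat.cast_inj]; omega)
    haveI := hB
    haveI : LocCoh.IsCohenMacaulayLocalRing B := by
      haveI := LC.gorenstein_of_isRegularLocalRing (R := B)
      exact LC.isCohenMacaulayLocalRing_of_gorenstein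
    refine ⟨hB, hB0, S2082.result ?_⟩
    rw [← (isRegularLocalRing_iff B).1 hB, hda, hdb, ← Nat.cast_add, Nat.cast_inj]
    omega
  tfae_finish

end Groth.Agent.Cohen4
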