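import Groth.Agent.CohenLib.Structure
import Groth.Agent.CoeffField.AdicSmooth
import Groth.Agent.RegFS6.Lift
import Groth.Agent.RegFS6.FlatLiftMod
import Groth.Agent.EGA41Lib.FieldFS
import Groth.Prelude.Def_EGA41

/-!
# Isomorphisms of Cohen rings and Cohen algebras
-/

set_option linter.style.haveILetI false

universe u

open IsLocalRing

namespace Groth.Agent.Cohen4

/-- A homomorphism from a ring with principal maximal ideal generated by `p` is surjective if it is so on
residue fields and `p` generates the maximal ideal of the target. -/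
theorem surjective_of_residue {W C : Type u} [CommRing W] [IsLocalRing W] [IsNoetherianRing W]
    [IsAdicComplete (maximalIdeal W) W] [CommRing C] [IsLocalRing C] [IsNoetherianRing C]
    (v : W →+* C) {p : ℕ} (hm : maximalIdeal W = Ideal.span {(p : W)}) (hm' : maximalIdeal C = Ideal.span {(p : C)})
    (hres : Function.Surjective ((residue C).comp v)) : Function.Surjective v := by
  have hmap : (maximalIdeal W).map v = maximalIdeal C := by
    rw [hm, Ideal.map_span, Set.image_singleton, map_natCast, hm']
  refine PSLib.surjective_of_first_order v (I := maximalIdeal W) (J := maximalIdeal C) (IsNoetherian.noetherian _)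
    (IsLocalRing.maximalIdeal_le_jacobson _) hmap.le (le_sup_of_le_left hmap.ge) fun c => ?_
  obtain ⟨w, hw⟩ := hres (residue C c)
  exact ⟨w, by rw [← residue_eq_zero_iff, map_sub, sub_eq_zero]; exact hw.symm⟩

theorem natCast_mem_maximal_iff {R : Type u} [CommRing R] [IsLocalRing R] (n : ℕ) :
    (n : R) ∈ maximalIdeal R ↔ (n : ResidueField R) = 0 := by
  rw [← residue_eq_zero_iff, map_natCast]

/-- Cohen rings with isomorphic residue fields are isomorphic compatibly. -/
theorem exists_equiv {W W' : Type u} [CommRing W] [IsLocalRing W] [CommRing W'] [IsLocalRing W']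
    (hW : EGA41.IsCohenRingEGA W) (hW' : EGA41.IsCohenRingEGA W') (u : ResidueField W ≃+* ResidueField W') :
    ∃ v : W ≃+* W', ∀ x : W, residue W' (v x) = u (residue W x) := by
  have hne : ∀ (R : Type u) [CommRing R] [IsLocalRing R], IsField R → CharZero R → ∀ q : ℕ, q.Prime →
      (q : ResidueField R) ≠ 0 := fun R _ _ hF h0 q hq h => by
    rw [← natCast_mem_maximal_iff, IsLocalRing.isField_iff_maximalIdeal_eq.1 hF, Ideal.mem_bot] at h
    exact hq.ne_zero (by exact_mod_cast h)
  rcases hW with ⟨hF, h0⟩ | ⟨_, _, hc, p, hp, hm⟩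
  · rcases hW' with ⟨hF', h0'⟩ | ⟨_, _, hc', q, hq, hm'⟩
    · have hb : ∀ (R : Type u) [CommRing R] [IsLocalRing R], IsField R → Function.Bijective (residue R) :=
        fun R _ _ hF => ⟨(injective_iff_map_eq_zero _).2 fun x hx => by
          rwa [residue_eq_zero_iff, IsLocalRing.isField_iff_maximalIdeal_eq.1 hF, Ideal.mem_bot] at hx,
          residue_surjective⟩
      refine ⟨((RingEquiv.ofBijective _ (hb W hF)).trans u).trans (RingEquiv.ofBijective _ (hb W' hF')).symm,
        fun x => ?_⟩
      exact (RingEquiv.ofBijective _ (hb W' hF')).apply_symm_apply _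
    · exfalso
      refine hne W hF h0 q hq (u.injective ?_)
      rw [map_natCast, map_zero, ← natCast_mem_maximal_iff, hm']
      exact Ideal.mem_span_singleton_self _
  · have hpK : (p : ResidueField W) = 0 := (natCast_mem_maximal_iff p).1 (hm ▸ Ideal.mem_span_singleton_self _)
    have hpK' : (p : ResidueField W') = 0 := by rw [← map_natCast u, hpK, map_zero]
    rcases hW' with ⟨hF', h0'⟩ | ⟨_, _, hc', q, hq, hm'⟩
    · exact absurd hpK' (hne W' hF' h0' p hp)
    · haveI := hc
      haveI := hc'
      have hpW' : (p : W') ∈ maximalIdeal W' := (natCast_mem_maximal_iff p).2 hpK'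
      have hqp : q = p := by
        by_contra hne'
        refine (maximalIdeal.isMaximal W').ne_top (Ideal.eq_top_iff_one _ |>.2 ?_)
        obtain ⟨a, b, hab⟩ := (Nat.Coprime.isCoprime ((Nat.coprime_primes hq hp).2 hne') : IsCoprime (q : ℤ) p)
        have h1 := congrArg (Int.cast (R := W')) hab
        push_cast at h1
        rw [← h1]
        exact add_mem (Ideal.mul_mem_left _ _ (hm' ▸ Ideal.mem_span_singleton_self _))
          (Ideal.mul_mem_left _ _ hpW')
      subst hqp
      obtain ⟨v, hv⟩ := CohenLib.exists_coeff_hom W hp hm hpW' (u.toRingHom.comp (residue W))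
      have hs : Function.Surjective v := surjective_of_residue v hm hm' (by
        rw [hv]
        exact u.surjective.comp residue_surjective)
      have hi : Function.Injective v := by
        rw [RingHom.injective_iff_ker_eq_bot]
        by_contra hne'
        have h1 := IsLocalRing.eq_maximalIdeal ((RingHom.ker_isPrime v).isMaximal hne')
        refine IsDiscreteValuationRing.not_a_field W' ?_
        rw [hm', Ideal.span_singleton_eq_bot, ← map_natCast v, ← RingHom.mem_ker, h1, hm]
        exact Ideal.mem_span_singleton_self _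
      exact ⟨RingEquiv.ofBijective v ⟨hi, hs⟩, fun x => RingHom.congr_fun hv x⟩

/-- An Artinian local ring is a quotient of a Cohen ring iff its maximal ideal is generated by `p`. -/
theorem artinian_quotient_iff {A : Type u} [CommRing A] [IsLocalRing A] [IsArtinianRing A] (p : ℕ)
    [CharP (ResidueField A) p] :
    (∃ (W : Type u) (_ : CommRing W) (I : Ideal W), EGA41.IsCohenRingEGA W ∧ Nonempty (A ≃+* W ⧸ I)) ↔
      maximalIdeal A = Ideal.span {(p : A)} := by
  constructor
  · rintro ⟨W, _, I, hW, ⟨e⟩⟩
    let π : W →+* A := e.symm.toRingHom.comp (Ideal.Quotient.mk I)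
    have hπ : Function.Surjective π := e.symm.surjective.comp Ideal.Quotient.mk_surjective
    rcases hW with ⟨hF, h0⟩ | ⟨_, _, _, q, hq, hm⟩
    · letI := hF.toField
      have hmA : maximalIdeal A = ⊥ := by
        refine IsLocalRing.isField_iff_maximalIdeal_eq.1 ?_
        exact ((RingEquiv.ofBijective π ⟨π.injective, hπ⟩).symm.toMulEquiv.isField hF)
      haveI : CharZero A := charZero_of_injective_ringHom π.injective
      have hp0 : p = 0 := by
        rcases CharP.char_is_prime_or_zero (ResidueField A) p with hpp | hp0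
        · exfalso
          have h1 : (p : A) ∈ maximalIdeal A := (natCast_mem_maximal_iff p).2 (CharP.cast_eq_zero _ p)
          rw [hmA, Ideal.mem_bot, Nat.cast_eq_zero] at h1
          exact hpp.ne_zero h1
        · exact hp0
      rw [hmA, hp0, Nat.cast_zero, Ideal.span_singleton_eq_bot.2 rfl]
    · have h1 : maximalIdeal A = (maximalIdeal W).map π := by
        refine (IsLocalRing.eq_maximalIdeal (Ideal.IsMaximal.map_of_surjective_of_ker_le hπ ?_)).symm
        exact le_maximalIdeal (RingHom.ker_ne_top π)
      rw [hm, Ideal.map_span, Set.image_singleton, map_natCast] at h1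
      have hqK : (q : ResidueField A) = 0 := (natCast_mem_maximal_iff q).1 (h1 ▸ Ideal.mem_span_singleton_self _)
      rw [CharP.cast_eq_zero_iff (ResidueField A) p] at hqK
      rcases (Nat.dvd_prime hq).1 hqK with h | h
      · exact absurd h (CharP.char_ne_one (ResidueField A) p)
      · rw [h, h1]
  · intro hm
    obtain ⟨N, hN⟩ := IsArtinianRing.isNilpotent_jacobson_bot (R := A)
    rw [IsLocalRing.jacobson_eq_maximalIdeal ⊥ bot_ne_top] at hN
    haveI : IsAdicComplete (maximalIdeal A) A := CoeffField.isAdicComplete_of_pow_eq_bot hN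
    rcases CharP.char_is_prime_or_zero (ResidueField A) p with hpp | hp0
    · haveI := Fact.mk hpp
      obtain ⟨W, _, _, hW, ⟨e⟩⟩ := CohenLib.exists_isCohenRing p (ResidueField A)
      refine ⟨W, inferInstance, ?_⟩
      have hW' := hW
      obtain ⟨_, _, hc, q, hq, hmW⟩ := hW'
      haveI := hc
      have hqp : q = p := by
        have h1 : (q : ResidueField W) = 0 := (natCast_mem_maximal_iff q).1 (hmW ▸ Ideal.mem_span_singleton_self _)
        have h2 := congrArg e h1
        rw [map_natCast, map_zero, CharP.cast_eq_zero_iff (ResidueField A) p] at h2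
        exact ((Nat.prime_dvd_prime_iff_eq hpp hq).1 h2).symm
      subst hqp
      obtain ⟨σ, hσ⟩ := CohenLib.exists_coeff_hom W hq hmW
        ((natCast_mem_maximal_iff q).2 (CharP.cast_eq_zero (ResidueField A) q)) (e.toRingHom.comp (residue W))
      have hs : Function.Surjective σ := surjective_of_residue σ hmW hm (by
        rw [hσ]
        exact e.surjective.comp residue_surjective)
      exact ⟨RingHom.ker σ, .inr hW, ⟨(RingHom.quotientKerEquivOfSurjective hs).symm⟩⟩
    · subst hp0
      rw [Nat.cast_zero, Ideal.span_singleton_eq_bot.2 rfl] at hm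
      haveI := CharP.charP_to_charZero (ResidueField A)
      haveI : CharZero A := charZero_of_inj_zero fun n hn => by
        have := congrArg (residue A) hn
        rw [map_natCast, map_zero] at this
        exact_mod_cast this
      exact ⟨A, inferInstance, ⊥, .inl ⟨IsLocalRing.isField_iff_maximalIdeal_eq.2 hm, inferInstance⟩,
        ⟨(RingEquiv.quotientBot A).symm⟩⟩

/-- Existence of Cohen algebras. -/
theorem exists_cohenAlgebra {A : Type u} [CommRing A] [IsLocalRing A] [IsNoetherianRing A]
    (K : Type u) [Field K] [Algebra (ResidueField A) K] [Algebra.IsGeometricallyReduced (ResidueField A) K] :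
    ∃ (B : Type u) (_ : CommRing B) (_ : IsLocalRing B) (_ : Algebra A B) (_ : IsLocalHom (algebraMap A B)),
      EGA41.IsCohenAlgebra A B ∧ Nonempty (ResidueField B ≃ₐ[ResidueField A] K) := by
  haveI : IsAdicComplete (maximalIdeal K) K := CoeffField.isAdicComplete_of_pow_eq_bot (N := 1)
    (by rw [pow_one]; exact IsLocalRing.isField_iff_maximalIdeal_eq.1 (Field.toIsField K))
  obtain ⟨C, _, _, _, _, _, ρ, hcC, hflat, hρ, hker, hρA⟩ := RegFS6.exists_flat_complete_lift A K
  have hk : RingHom.ker ρ = maximalIdeal C := IsLocalRing.eq_maximalIdeal (RingHom.ker_isMaximal_of_surjective ρ hρ)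
  let f : ResidueField C →+* K := Ideal.Quotient.lift _ ρ fun c hc => by
    rw [← RingHom.mem_ker, hk]; exact hc
  have hf : Function.Bijective f := ⟨f.injective, fun y => by
    obtain ⟨c, rfl⟩ := hρ y; exact ⟨residue C c, rfl⟩⟩
  let e : ResidueField C ≃ₐ[ResidueField A] K :=
    AlgEquiv.ofRingEquiv (f := RingEquiv.ofBijective f hf) fun x => by
      obtain ⟨a, rfl⟩ := residue_surjective x
      exact hρA a
  refine ⟨C, inferInstance, inferInstance, inferInstance, inferInstance,
    ⟨inferInstance, inferInstance, hcC, hflat, by rw [← hker, hk], ?_⟩, ⟨e⟩⟩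
  exact Algebra.IsGeometricallyReduced.of_injective e.toAlgHom e.injective

/-- Uniqueness of Cohen algebras. -/
theorem cohenAlgebra_unique {A : Type u} [CommRing A] [IsLocalRing A] [IsNoetherianRing A]
    (K : Type u) [Field K] [Algebra (ResidueField A) K] [Algebra.IsGeometricallyReduced (ResidueField A) K]
    (B B' : Type u) [CommRing B] [IsLocalRing B] [Algebra A B] [IsLocalHom (algebraMap A B)]
    [CommRing B'] [IsLocalRing B'] [Algebra A B'] [IsLocalHom (algebraMap A B')]
    (h : EGA41.IsCohenAlgebra A B) (h' : EGA41.IsCohenAlgebra A B')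
    (e : ResidueField B ≃ₐ[ResidueField A] K) (e' : ResidueField B' ≃ₐ[ResidueField A] K) :
    Nonempty (B ≃ₐ[A] B') := by
  obtain ⟨-, hN, hc, hfl, hm, -⟩ := h
  obtain ⟨-, hN', hc', hfl', hm', -⟩ := h'
  haveI := hN
  haveI := hN'
  haveI := hc
  haveI := hc'
  haveI := hfl
  haveI := hfl'
  letI : Algebra (A ⧸ maximalIdeal A) K := ‹Algebra (ResidueField A) K›
  letI : Algebra A K := ((algebraMap (ResidueField A) K).comp (residue A)).toAlgebra
  haveI : IsScalarTower A (A ⧸ maximalIdeal A) K := IsScalarTower.of_algebraMap_eq fun _ => rfl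
  haveI : IsLocalRing (A ⧸ maximalIdeal A) :=
    IsLocalRing.of_surjective' (Ideal.Quotient.mk (maximalIdeal A)) Ideal.Quotient.mk_surjective
  haveI : IsLocalHom (algebraMap (A ⧸ maximalIdeal A) K) := ⟨fun z hz => by
    letI := Ideal.Quotient.field (maximalIdeal A)
    refine IsUnit.mk0 z fun h0 => hz.ne_zero ?_
    rw [h0, map_zero]⟩
  have hfs : CAlgX.IsAdicFormallySmooth (A ⧸ maximalIdeal A) K (maximalIdeal K) := by
    haveI : Algebra.FormallySmooth (A ⧸ maximalIdeal A) K :=
      EGA41Lib.FieldFS.formallySmooth_of_isGeometricallyReduced (ResidueField A) K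
    intro E _ _ J hJ ψ _
    exact Algebra.FormallySmooth.exists_lift (R := A ⧸ maximalIdeal A) J ⟨2, by rw [hJ, Ideal.zero_eq_bot]⟩ ψ
  let π : B →ₐ[A] K :=
    { (e : ResidueField B →+* K).comp (residue B) with
      commutes' := fun a => e.commutes (residue A a) }
  let π' : B' →ₐ[A] K :=
    { (e' : ResidueField B' →+* K).comp (residue B') with
      commutes' := fun a => e'.commutes (residue A a) }
  have hker : RingHom.ker π = (maximalIdeal A).map (algebraMap A B) := by
    rw [hm]; ext b; exact (map_eq_zero_iff e e.injective).trans (residue_eq_zero_iff b)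
  have hker' : RingHom.ker π' = (maximalIdeal A).map (algebraMap A B') := by
    rw [hm']; ext b; exact (map_eq_zero_iff e' e'.injective).trans (residue_eq_zero_iff b)
  obtain ⟨v, -⟩ := RegFS6.exists_equiv_of_flat_lifts (maximalIdeal A) le_rfl π
    (e.surjective.comp residue_surjective) hker π' (e'.surjective.comp residue_surjective) hker' hfs
  exact ⟨v⟩

end Groth.Agent.Cohen4
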