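import Groth.Agent.CohenLib.Structure
import Groth.Agent.S4537
import Groth.Agent.S2462
import Groth.Prelude.Def_EGA41

/-!
# Lifting maps out of Cohen rings
-/

set_option linter.style.haveILetI false

universe u

open IsLocalRing

namespace Groth.Agent.Cohen4

theorem ulift_int_hom_ext {R : Type*} [Semiring R] (f g : ULift.{u} ℤ →+* R) : f = g := by
  refine RingHom.ext fun z => ?_
  obtain ⟨z⟩ := z
  exact RingHom.congr_fun (RingHom.ext_int (f.comp (ULift.ringEquiv.{0, u} (R := ℤ)).symm.toRingHom)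
    (g.comp (ULift.ringEquiv.{0, u} (R := ℤ)).symm.toRingHom)) z

/-- A Cohen ring is formally smooth over the integers for its adic topology. -/
theorem isAdicFormallySmooth_cohenRing {W : Type u} [CommRing W] [IsLocalRing W] [Algebra (ULift.{u} ℤ) W]
    (hW : EGA41.IsCohenRingEGA W) :
    CAlgX.IsAdicFormallySmooth (ULift.{u} ℤ) W (maximalIdeal W) := by
  rcases hW with ⟨hF, h0⟩ | ⟨_, _, hc, p, hp, hm⟩
  · letI := hF.toField
    haveI := h0
    intro E _ _ J hJ ψ _
    rcases subsingleton_or_nontrivial E with hE | hE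
    · refine ⟨⟨⟨⟨⟨fun _ => 0, Subsingleton.elim _ _⟩, fun _ _ => Subsingleton.elim _ _⟩, Subsingleton.elim _ _,
        fun _ _ => Subsingleton.elim _ _⟩, fun _ => Subsingleton.elim _ _⟩, AlgHom.ext fun x => ?_⟩
      obtain ⟨y, hy⟩ := Ideal.Quotient.mk_surjective (ψ x)
      show Ideal.Quotient.mk J _ = _
      rw [← hy]
      exact congrArg _ (Subsingleton.elim _ _)
    have hunit : ∀ z : nonZeroDivisors ℤ, IsUnit (Int.castRingHom E z) := by
      rintro ⟨z, hz⟩
      have hz0 : z ≠ 0 := nonZeroDivisors.ne_zero hz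
      have h1 : IsUnit (Ideal.Quotient.mk J ((z : ℤ) : E)) := by
        rw [map_intCast, ← map_intCast ψ.toRingHom]
        exact (IsUnit.mk0 (z : W) (Int.cast_ne_zero.2 hz0)).map _
      obtain ⟨b, hb⟩ := h1.exists_right_inv
      obtain ⟨b, rfl⟩ := Ideal.Quotient.mk_surjective b
      rw [← map_mul, ← sub_eq_zero, ← map_one (Ideal.Quotient.mk J), ← map_sub, Ideal.Quotient.eq_zero_iff_mem] at hb
      refine IsUnit.of_mul_eq_one (b * (1 - ((z : E) * b - 1))) ?_
      have h2 : ((z : E) * b - 1) * ((z : E) * b - 1) = 0 := by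
        rw [← Ideal.mem_bot, ← hJ, pow_two]
        exact Ideal.mul_mem_mul hb hb
      show (z : E) * _ = 1
      linear_combination -h2
    letI : Algebra ℚ E := (IsLocalization.lift hunit).toAlgebra
    haveI := CoeffField.formallySmooth_of_perfectField ℚ W
    obtain ⟨χ, hχ⟩ := Algebra.FormallySmooth.exists_lift (R := ℚ) J ⟨2, by rw [hJ, Ideal.zero_eq_bot]⟩
      ({ ψ.toRingHom with
          commutes' := fun q => RingHom.congr_fun (Subsingleton.elim (ψ.toRingHom.comp (algebraMap ℚ W))
            (algebraMap ℚ (E ⧸ J))) q } : W →ₐ[ℚ] E ⧸ J)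
    exact ⟨{ χ.toRingHom with commutes' := fun z => RingHom.congr_fun
                                  (ulift_int_hom_ext (χ.toRingHom.comp (algebraMap (ULift.{u} ℤ) W)) (algebraMap (ULift.{u} ℤ) E)) z },
      AlgHom.ext fun x => AlgHom.congr_fun hχ x⟩
  · haveI := hc
    intro E _ _ J hJ ψ hψ
    obtain ⟨k, hk⟩ := hψ
    have hpk : ((p : E) ^ k) ∈ J := by
      rw [← Ideal.Quotient.eq_zero_iff_mem, map_pow, map_natCast, ← map_natCast ψ.toRingHom, ← map_pow]
      exact hk _ (Ideal.pow_mem_pow (hm ▸ Ideal.mem_span_singleton_self _) k)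
    have hpN : (p : E) ^ (2 * k + 1) = 0 := by
      rw [pow_succ, two_mul, pow_add]
      have : (p : E) ^ k * (p : E) ^ k = 0 := by
        rw [← Ideal.mem_bot, ← hJ, pow_two]
        exact Ideal.mul_mem_mul hpk hpk
      rw [this, zero_mul]
    obtain ⟨g, hg⟩ := CohenLib.exists_lift_step W hp hm (Ideal.Quotient.mk J) Ideal.Quotient.mk_surjective
      (by rw [Ideal.mk_ker, hJ]) (N := 2 * k + 1) (by omega) hpN ψ.toRingHom
    exact ⟨{ g with commutes' := fun z => RingHom.congr_fun
                        (ulift_int_hom_ext (g.comp (algebraMap (ULift.{u} ℤ) W)) (algebraMap (ULift.{u} ℤ) E)) z },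
      AlgHom.ext fun x => RingHom.congr_fun hg x⟩

/-- Local homomorphisms out of a Cohen ring lift to complete local rings. -/
theorem exists_lift {W C : Type u} [CommRing W] [IsLocalRing W] (hW : EGA41.IsCohenRingEGA W)
    [CommRing C] [IsLocalRing C] [IsNoetherianRing C] [IsAdicComplete (maximalIdeal C) C]
    (J : Ideal C) (hJ : J ≠ ⊤) (u : W →+* C ⧸ J)
    (hu : (maximalIdeal W).map u ≤ (maximalIdeal C).map (Ideal.Quotient.mk J)) :
    ∃ v : W →+* C, (maximalIdeal W).map v ≤ maximalIdeal C ∧ (Ideal.Quotient.mk J).comp v = u := by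
  letI : Algebra (ULift.{u} ℤ) W := ((Int.castRingHom W).comp ULift.ringEquiv.toRingHom).toAlgebra
  letI : Algebra (ULift.{u} ℤ) C := ((Int.castRingHom C).comp ULift.ringEquiv.toRingHom).toAlgebra
  let u' : W →ₐ[ULift.{u} ℤ] C ⧸ J := { u with commutes' := fun z => RingHom.congr_fun
                                                   (ulift_int_hom_ext (u.comp (algebraMap (ULift.{u} ℤ) W)) (algebraMap (ULift.{u} ℤ) (C ⧸ J))) z }
  obtain ⟨v, hv, hvu⟩ := S2462.result ⊥ (maximalIdeal W) ((S4537.result _).1 (isAdicFormallySmooth_cohenRing hW))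
    (by rw [Ideal.map_bot]; exact bot_le) J hJ u' hu
  exact ⟨v.toRingHom, hv, RingHom.ext fun x => AlgHom.congr_fun hvu x⟩

end Groth.Agent.Cohen4
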