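import Groth.Agent.EGA41Lib.FieldFS
import Groth.Agent.CoeffField.Smooth
import Groth.Agent.RegLoc6.Basic
import Groth.Prelude.Def_EGA41

/-!
# Cohen rings as Cohen algebras over the prime local ring
-/

set_option linter.style.haveILetI false

open IsLocalRing

namespace Groth.Agent.Cohen4

variable (p : ℕ) [hp : (Ideal.span {(p : ℤ)}).IsPrime]


theorem maximalIdeal_prime_localRing : maximalIdeal (Localization.AtPrime (Ideal.span {(p : ℤ)})) = Ideal.span {(p : (Localization.AtPrime (Ideal.span {(p : ℤ)})))} := by
  rw [← Localization.AtPrime.map_eq_maximalIdeal, Ideal.map_span, Set.image_singleton, map_natCast]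

theorem charP_residue_prime : CharP (ResidueField (Localization.AtPrime (Ideal.span {(p : ℤ)}))) p := by
  rcases eq_or_ne p 0 with rfl | hp0
  · haveI : CharZero (ResidueField (Localization.AtPrime (Ideal.span {((0 : ℕ) : ℤ)}))) := charZero_of_inj_zero fun n hn => by
      by_contra hne
      have h1 : IsUnit (algebraMap ℤ (Localization.AtPrime (Ideal.span {((0 : ℕ) : ℤ)})) (n : ℤ)) := IsLocalization.map_units (Localization.AtPrime (Ideal.span {((0 : ℕ) : ℤ)}))
        (⟨(n : ℤ), by simpa [Ideal.primeCompl, Ideal.mem_span_singleton] using hne⟩ :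
          (Ideal.span {((0 : ℕ) : ℤ)}).primeCompl)
      rw [map_natCast] at h1
      exact ((residue_ne_zero_iff_isUnit _).2 h1) (by rw [map_natCast]; exact hn)
    exact CharP.ofCharZero _
  · have hpp : p.Prime := Nat.prime_iff_prime_int.2
      ((Ideal.span_singleton_prime (Int.natCast_ne_zero.2 hp0)).1 hp)
    refine (CharP.charP_iff_prime_eq_zero hpp).2 ?_
    rw [← map_natCast (residue (Localization.AtPrime (Ideal.span {(p : ℤ)}))), residue_eq_zero_iff, maximalIdeal_prime_localRing]
    exact Ideal.mem_span_singleton_self _

theorem perfectField_residue_prime : PerfectField (ResidueField (Localization.AtPrime (Ideal.span {(p : ℤ)}))) := by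
  haveI := charP_residue_prime p
  rcases eq_or_ne p 0 with rfl | hp0
  · haveI := CharP.charP_to_charZero (ResidueField (Localization.AtPrime (Ideal.span {((0 : ℕ) : ℤ)})))
    infer_instance
  · have hpp : p.Prime := Nat.prime_iff_prime_int.2
      ((Ideal.span_singleton_prime (Int.natCast_ne_zero.2 hp0)).1 hp)
    haveI := Fact.mk hpp
    haveI : Finite (ResidueField (Localization.AtPrime (Ideal.span {(p : ℤ)}))) := by
      have hmax : (Ideal.span {(p : ℤ)}).IsMaximal :=
        hp.isMaximal (by simpa [Ideal.span_singleton_eq_bot] using hp0)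
      refine Finite.of_surjective (ZMod.castHom dvd_rfl (ResidueField (Localization.AtPrime (Ideal.span {(p : ℤ)}))) : ZMod p → _) fun y => ?_
      obtain ⟨x, rfl⟩ := residue_surjective y
      obtain ⟨a, s, rfl⟩ := IsLocalization.exists_mk'_eq (Ideal.span {(p : ℤ)}).primeCompl x
      have hs : residue (Localization.AtPrime (Ideal.span {(p : ℤ)})) (algebraMap ℤ (Localization.AtPrime (Ideal.span {(p : ℤ)})) s) ≠ 0 :=
        (residue_ne_zero_iff_isUnit _).2 (IsLocalization.map_units (Localization.AtPrime (Ideal.span {(p : ℤ)})) s)
      refine ⟨(a : ZMod p) * ((s : ℤ) : ZMod p)⁻¹, ?_⟩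
      rw [map_mul, map_inv₀, map_intCast, map_intCast]
      apply mul_right_cancel₀ hs
      rw [← map_mul, IsLocalization.mk'_spec, eq_intCast, eq_intCast, map_intCast, map_intCast]
      rw [eq_intCast, map_intCast] at hs
      field_simp
    exact PerfectField.ofFinite

theorem isCohenAlgebra_iff {A : Type} [CommRing A] [IsLocalRing A] [CharP (ResidueField A) p]
    [Algebra (Localization.AtPrime (Ideal.span {(p : ℤ)})) A] [IsLocalHom (algebraMap (Localization.AtPrime (Ideal.span {(p : ℤ)})) A)] :
    EGA41.IsCohenAlgebra (Localization.AtPrime (Ideal.span {(p : ℤ)})) A ↔ EGA41.IsCohenRingEGA A := by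
  constructor
  · rintro ⟨-, hN, hc, hfl, hm, -⟩
    haveI := hN
    haveI := hfl
    rw [maximalIdeal_prime_localRing, Ideal.map_span, Set.image_singleton, map_natCast] at hm
    rcases eq_or_ne p 0 with rfl | hp0
    · rw [Nat.cast_zero, Ideal.span_singleton_eq_bot.2 rfl] at hm
      haveI := CharP.charP_to_charZero (ResidueField A)
      refine .inl ⟨IsLocalRing.isField_iff_maximalIdeal_eq.2 hm.symm, charZero_of_inj_zero fun n hn => ?_⟩
      have := congrArg (residue A) hn
      rw [map_natCast, map_zero] at this
      exact_mod_cast this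
    · have hpp : p.Prime := Nat.prime_iff_prime_int.2
        ((Ideal.span_singleton_prime (Int.natCast_ne_zero.2 hp0)).1 hp)
      have hreg : IsSMulRegular A (p : A) := by
        rw [← map_natCast (algebraMap (Localization.AtPrime (Ideal.span {(p : ℤ)})) A)]
        have h := Module.Flat.isSMulRegular_of_nonZeroDivisors (M := A) (r := (p : (Localization.AtPrime (Ideal.span {(p : ℤ)})))) (mem_nonZeroDivisors_of_ne_zero (by
          intro h0
          have := congrArg (residue (Localization.AtPrime (Ideal.span {(p : ℤ)}))) h0
          have h1 : algebraMap ℤ (Localization.AtPrime (Ideal.span {(p : ℤ)})) (p : ℤ) = 0 := by rw [map_natCast]; exact h0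
          exact Int.natCast_ne_zero.2 hp0 (IsLocalization.injective (Localization.AtPrime (Ideal.span {(p : ℤ)}))
            (Ideal.primeCompl_le_nonZeroDivisors (Ideal.span {(p : ℤ)})) (h1.trans (map_zero _).symm))))
        intro a b hab
        apply h
        simpa [Algebra.smul_def] using hab
      have hpm : (p : A) ∈ maximalIdeal A := hm ▸ Ideal.mem_span_singleton_self _
      have hdim : (1 : WithBot ℕ∞) ≤ ringKrullDim A := by
        have hdim' := ringKrullDim_quotient_span_singleton_succ_eq_ringKrullDim hreg hpm
        haveI : Nontrivial (A ⧸ Ideal.span {(p : A)}) := Ideal.Quotient.nontrivial_iff.2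
          (hm ▸ (maximalIdeal.isMaximal A).ne_top)
        rw [← hdim']
        exact le_add_of_nonneg_left ringKrullDim_nonneg_of_nontrivial
      haveI : IsRegularLocalRing A := by
        refine IsRegularLocalRing.of_spanFinrank_maximalIdeal_le A (le_trans ?_ hdim)
        have : (maximalIdeal A).spanFinrank ≤ 1 := by
          rw [← hm]
          exact (Submodule.spanFinrank_span_le_ncard_of_finite (Set.finite_singleton _)).trans (by simp)
        exact_mod_cast this
      haveI := RegLoc6.isDomain_of_isRegularLocalRing A
      have hnf : ¬ IsField A := fun h => by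
        rw [IsLocalRing.isField_iff_maximalIdeal_eq, ← hm, Ideal.span_singleton_eq_bot] at h
        rw [h] at hreg
        exact zero_ne_one (hreg (show (0 : A) • (0 : A) = (0 : A) • (1 : A) by simp))
      haveI : IsDiscreteValuationRing A :=
        ((IsDiscreteValuationRing.TFAE A hnf).out 4 0).1 (show Submodule.IsPrincipal (maximalIdeal A) from ⟨(p : A), hm.symm⟩)
      exact .inr ⟨inferInstance, inferInstance, hc, p, hpp, hm.symm⟩
  · intro h
    haveI := perfectField_residue_prime p
    haveI : Algebra.IsGeometricallyReduced (ResidueField (Localization.AtPrime (Ideal.span {(p : ℤ)}))) (ResidueField A) := by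
      haveI := CoeffField.formallySmooth_of_perfectField (ResidueField (Localization.AtPrime (Ideal.span {(p : ℤ)}))) (ResidueField A)
      exact EGA41Lib.FieldFS.isGeometricallyReduced_of_formallySmooth _ _
    have key : IsNoetherianRing A ∧ IsAdicComplete (maximalIdeal A) A ∧ IsDomain A ∧ CharZero A ∧
        maximalIdeal A = Ideal.span {(p : A)} := by
      rcases h with ⟨hF, h0⟩ | ⟨_, _, hc, q, hq, hm⟩
      · letI := hF.toField
        have hbot := IsLocalRing.isField_iff_maximalIdeal_eq.1 hF
        haveI : IsAdicComplete (maximalIdeal A) A := by rw [hbot]; infer_instance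
        have hp0 : p = 0 := by
          rcases CharP.char_is_prime_or_zero (ResidueField A) p with hpp | hp0
          · exfalso
            have h1 : (p : A) ∈ maximalIdeal A := by
              rw [← residue_eq_zero_iff, map_natCast, CharP.cast_eq_zero]
            rw [hbot, Ideal.mem_bot] at h1
            exact hpp.ne_zero (by exact_mod_cast h1)
          · exact hp0
        exact ⟨inferInstance, inferInstance, inferInstance, h0,
          by rw [hbot, hp0, Nat.cast_zero, Ideal.span_singleton_eq_bot.2 rfl]⟩
      · have hqp : q = p := by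
          have h1 : (q : ResidueField A) = 0 := by
            rw [← map_natCast (residue A), residue_eq_zero_iff, hm]
            exact Ideal.mem_span_singleton_self _
          rw [CharP.cast_eq_zero_iff (ResidueField A) p] at h1
          rcases (Nat.dvd_prime hq).1 h1 with h2 | h2
          · exact absurd h2 (CharP.char_ne_one (ResidueField A) p)
          · exact h2.symm
        subst hqp
        refine ⟨inferInstance, hc, inferInstance, ?_, hm⟩
        obtain ⟨r, hr⟩ := CharP.exists A
        rcases CharP.char_is_prime_or_zero A r with hrp | hr0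
        · exfalso
          have h1 : (r : ResidueField A) = 0 := by rw [← map_natCast (residue A), CharP.cast_eq_zero, map_zero]
          rw [CharP.cast_eq_zero_iff (ResidueField A) q, Nat.prime_dvd_prime_iff_eq hq hrp] at h1
          refine IsDiscreteValuationRing.not_a_field A ?_
          rw [hm, h1, CharP.cast_eq_zero, Ideal.span_singleton_eq_bot.2 rfl]
        · subst hr0
          exact CharP.charP_to_charZero A
    obtain ⟨hN, hc, hD, h0, hm⟩ := key
    haveI := hN
    haveI := hD
    haveI := h0
    haveI : IsNoetherianRing (Localization.AtPrime (Ideal.span {(p : ℤ)})) := IsLocalization.isNoetherianRing (Ideal.span {(p : ℤ)}).primeCompl (Localization.AtPrime (Ideal.span {(p : ℤ)})) inferInstance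
    refine ⟨inferInstance, hN, hc, ?_, ?_, inferInstance⟩
    · haveI : IsPrincipalIdealRing (Localization.AtPrime (Ideal.span {(p : ℤ)})) := ⟨fun I => by
        obtain ⟨g, hg⟩ := (IsPrincipalIdealRing.principal (I.comap (algebraMap ℤ (Localization.AtPrime (Ideal.span {(p : ℤ)})))))
        refine ⟨algebraMap ℤ (Localization.AtPrime (Ideal.span {(p : ℤ)})) g, ?_⟩
        have h := IsLocalization.map_under (Ideal.span {(p : ℤ)}).primeCompl (Localization.AtPrime (Ideal.span {(p : ℤ)})) I
        rw [Ideal.under, hg, ← Ideal.span, Ideal.map_span, Set.image_singleton] at h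
        exact h.symm⟩
      haveI : IsDomain (Localization.AtPrime (Ideal.span {(p : ℤ)})) := IsLocalization.isDomain_of_atPrime (Localization.AtPrime (Ideal.span {(p : ℤ)})) (Ideal.span {(p : ℤ)})
      rw [Module.Flat.flat_iff_torsion_eq_bot_of_isBezout, eq_bot_iff]
      rintro a ⟨⟨z, hz⟩, hza⟩
      have hza' : z • a = 0 := hza
      rw [Algebra.smul_def, mul_eq_zero] at hza'
      refine hza'.resolve_left fun hz0 => nonZeroDivisors.ne_zero hz ?_
      obtain ⟨b, s, rfl⟩ := IsLocalization.exists_mk'_eq (Ideal.span {(p : ℤ)}).primeCompl z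
      rw [IsLocalization.mk'_eq_zero_iff]
      refine ⟨1, ?_⟩
      have h1 := congrArg (algebraMap (Localization.AtPrime (Ideal.span {(p : ℤ)})) A) (IsLocalization.mk'_spec (Localization.AtPrime (Ideal.span {(p : ℤ)})) b s)
      rw [map_mul, hz0, zero_mul, ← RingHom.comp_apply, eq_intCast] at h1
      rw [Submonoid.coe_one, one_mul]
      exact_mod_cast h1.symm
    · rw [maximalIdeal_prime_localRing, Ideal.map_span, Set.image_singleton, map_natCast, hm]

end Groth.Agent.Cohen4
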