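import Groth.Agent.CohenLib.Structure
import Groth.Agent.CohenLib.PowerSeries
import Groth.Agent.CoeffField.AdicSmooth
import Groth.Agent.RegLoc6.Basic
import Groth.Agent.PSLib.Regular
import Groth.Agent.Adic7.Misc

/-!
# Complete local rings as quotients of regular rings
-/

set_option linter.style.haveILetI false

universe u

open IsLocalRing

namespace Groth.Agent.Cohen4

/-- For an ideal containing the square of the maximal ideal of a regular local ring, the quotient is that of a
regular local ring by the square of its maximal ideal. -/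
theorem exists_regular_quot_sq : ∀ (N : ℕ) (R : Type u) [CommRing R] [IsRegularLocalRing R],
    (maximalIdeal R).spanFinrank ≤ N → ∀ K : Ideal R, maximalIdeal R ^ 2 ≤ K → K ≤ maximalIdeal R →
    ∃ (B : Type u) (_ : CommRing B) (_ : IsRegularLocalRing B) (π : R →+* B), Function.Surjective π ∧
      RingHom.ker π ≤ K ∧ K.map π ≤ maximalIdeal B ^ 2 := by
  intro N
  induction N with
  | zero =>
    intro R _ _ hN K hK hKm
    refine ⟨R, inferInstance, inferInstance, RingHom.id R, Function.surjective_id,
      (show RingHom.ker (RingHom.id R) ≤ K from fun x hx => by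
        rw [show x = 0 from hx]; exact zero_mem _), ?_⟩
    rw [Ideal.map_id]
    have h0 : maximalIdeal R = ⊥ := by
      rw [← Submodule.spanFinrank_eq_zero_iff_eq_bot (IsNoetherian.noetherian _)]
      omega
    refine hKm.trans ?_
    rw [h0]
    exact bot_le
  | succ N ih =>
    intro R _ _ hN K hK hKm
    by_cases hle : K ≤ maximalIdeal R ^ 2
    · exact ⟨R, inferInstance, inferInstance, RingHom.id R, Function.surjective_id,
        (show RingHom.ker (RingHom.id R) ≤ K from fun x hx => by
          rw [show x = 0 from hx]; exact zero_mem _), by rwa [Ideal.map_id]⟩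
    obtain ⟨x, hxK, hx2⟩ := SetLike.not_le_iff_exists.1 hle
    obtain ⟨hreg, -⟩ := RegLoc6.isRegularLocalRing_quot_and (hKm hxK) hx2
    haveI := hreg
    have hsp := RegLoc6.spanFinrank_quot_le (hKm hxK) hx2
    let q := Ideal.Quotient.mk (Ideal.span {x})
    have hmax : (maximalIdeal R).map q = maximalIdeal (R ⧸ Ideal.span {x}) :=
      IsLocalRing.eq_maximalIdeal (Ideal.IsMaximal.map_of_surjective_of_ker_le Ideal.Quotient.mk_surjective
        (by rw [Ideal.mk_ker]; exact (Ideal.span_singleton_le_iff_mem _).2 (hKm hxK)))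
    obtain ⟨B, _, _, π, hπ, hker, hmap⟩ := ih (R ⧸ Ideal.span {x}) (by omega) (K.map q)
      (by rw [← hmax, ← Ideal.map_pow]; exact Ideal.map_mono hK) (hmax ▸ Ideal.map_mono hKm)
    refine ⟨B, inferInstance, inferInstance, π.comp q, hπ.comp Ideal.Quotient.mk_surjective, ?_, ?_⟩
    · intro y hy
      have h1 : q y ∈ K.map q := hker hy
      rw [← Ideal.mem_comap, Ideal.comap_map_of_surjective' _ Ideal.Quotient.mk_surjective, Ideal.mk_ker] at h1
      exact sup_le le_rfl ((Ideal.span_singleton_le_iff_mem _).2 hxK) h1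
    · rw [← Ideal.map_map]
      exact hmap

/-- An Artinian local ring with square-zero maximal ideal is a regular local ring modulo the square of its
maximal ideal. -/
theorem exists_regular_mod_sq {A : Type u} [CommRing A] [IsLocalRing A] [IsArtinianRing A]
    (h : maximalIdeal A ^ 2 = ⊥) :
    ∃ (B : Type u) (_ : CommRing B) (_ : IsRegularLocalRing B),
      Nonempty (A ≃+* B ⧸ IsLocalRing.maximalIdeal B ^ 2) := by
  haveI : IsAdicComplete (maximalIdeal A) A := CoeffField.isAdicComplete_of_pow_eq_bot h
  obtain ⟨Λ, _, n, f, hΛ, hf⟩ := CohenLib.exists_surjective A (IsNoetherian.noetherian _)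
  obtain ⟨-, hreg, -⟩ := CohenLib.isRegular_complete_mvPowerSeries hΛ n
  haveI := hreg
  let P := MvPowerSeries (Fin n) Λ
  have hker : maximalIdeal P ^ 2 ≤ RingHom.ker f := by
    rw [← Ideal.map_eq_bot_iff_le_ker, Ideal.map_pow, eq_bot_iff, ← h]
    exact Ideal.pow_right_mono ((((local_hom_TFAE f).out 0 2).1 (IsLocalHom.of_surjective f hf)) : _ ≤ _) 2
  obtain ⟨B, _, _, π, hπ, hπK, hKπ⟩ := exists_regular_quot_sq _ P le_rfl (RingHom.ker f) hker
    (le_maximalIdeal (RingHom.ker_ne_top f))
  let g := (Ideal.Quotient.mk (maximalIdeal B ^ 2)).comp π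
  have hg : RingHom.ker g = RingHom.ker f := by
    refine le_antisymm ?_ fun x hx => Ideal.Quotient.eq_zero_iff_mem.2 (hKπ (Ideal.mem_map_of_mem _ hx))
    intro x hx
    have h1 : π x ∈ maximalIdeal B ^ 2 := Ideal.Quotient.eq_zero_iff_mem.1 hx
    have h2 : maximalIdeal B = (maximalIdeal P).map π :=
      (IsLocalRing.eq_maximalIdeal (Ideal.IsMaximal.map_of_surjective_of_ker_le hπ
        (le_maximalIdeal (RingHom.ker_ne_top π)))).symm
    rw [h2, ← Ideal.map_pow, ← Ideal.mem_comap, Ideal.comap_map_of_surjective' _ hπ] at h1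
    exact sup_le hker hπK h1
  exact ⟨B, inferInstance, inferInstance, ⟨((RingHom.quotientKerEquivOfSurjective hf).symm.trans
    (Ideal.quotEquivOfEq hg.symm)).trans
      (RingHom.quotientKerEquivOfSurjective (f := g) (Ideal.Quotient.mk_surjective.comp hπ))⟩⟩

/-- A complete local ring containing a field is a quotient of a power series ring over a field, minimally. -/
theorem exists_minimal_presentation {A : Type u} [CommRing A] [IsLocalRing A] [IsNoetherianRing A]
    [IsAdicComplete (maximalIdeal A) A] (p : ℕ) [CharP (ResidueField A) p] (hp : (p : A) = 0) :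
    ∃ (K : Type u) (_ : Field K) (n : ℕ) (f : MvPowerSeries (Fin n) K →+* A),
      Function.Surjective f ∧ RingHom.ker f ≤ maximalIdeal (MvPowerSeries (Fin n) K) ^ 2 := by
  obtain ⟨σ, hσ⟩ : ∃ σ : ResidueField A →+* A, ∀ x, residue A (σ x) = x := by
    rcases CharP.char_is_prime_or_zero (ResidueField A) p with hpp | hp0
    · haveI := Fact.mk hpp
      haveI : CharP A p := (CharP.charP_iff_prime_eq_zero hpp).2 hp
      letI : Algebra (ZMod p) A := ZMod.algebra A p
      exact CoeffField.exists_ringHom_section (ZMod p) A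
    · subst hp0
      haveI := CharP.charP_to_charZero (ResidueField A)
      have hu : ∀ z : nonZeroDivisors ℤ, IsUnit (Int.castRingHom A z) := by
        rintro ⟨z, hz⟩
        have hz0 : z ≠ 0 := nonZeroDivisors.ne_zero hz
        show IsUnit ((z : ℤ) : A)
        rw [← residue_ne_zero_iff_isUnit, map_intCast]
        exact_mod_cast hz0
      letI : Algebra ℚ A := (IsLocalization.lift hu).toAlgebra
      exact CoeffField.exists_ringHom_section ℚ A
  let K := ResidueField A
  letI : Algebra K A := σ.toAlgebra
  let bb := Module.finBasis (ResidueField A) (CotangentSpace A)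
  choose b hb using fun i => (maximalIdeal A).toCotangent_surjective (bb i)
  have hsp : Submodule.span (ResidueField A) (Set.range fun i => (maximalIdeal A).toCotangent (b i)) = ⊤ := by
    simp only [hb]; exact bb.span_eq
  obtain ⟨ψ, hψ⟩ := PSLib.exists_algHom (R := K) (maximalIdeal A) (fun i => (b i).1) (fun i => (b i).2)
  have hs : Function.Surjective ψ := by
    refine PSLib.surjective_of_span (fun x => ⟨x, hσ x⟩) ψ (fun i => by rw [hψ]; exact (b i).2) ?_
    simp only [hψ]
    exact PSLib.le_span_sup_sq (fun i => (b i).2) hsp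
  refine ⟨K, inferInstance, _, ψ.toRingHom, hs, fun x hx => ?_⟩
  have hx0 : ψ x = 0 := hx
  have hxv : x ∈ maximalIdeal _ := le_maximalIdeal (RingHom.ker_ne_top ψ.toRingHom) hx
  rw [PSLib.maximalIdeal_eq_vars, PSLib.vars] at hxv
  obtain ⟨c, hc⟩ := Ideal.mem_span_range_iff_exists_fun.1 hxv
  have hc0 : ∀ i, residue A (ψ (c i)) = 0 := by
    have h1 : (∑ i, ψ (c i) • b i : maximalIdeal A) = 0 := Subtype.ext (by
      simp only [AddSubmonoidClass.coe_finsetSum, SetLike.val_smul, smul_eq_mul, ZeroMemClass.coe_zero]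
      rw [← hx0, ← hc, map_sum]
      simp only [map_mul, hψ])
    have h2 := congrArg (maximalIdeal A).toCotangent h1
    rw [map_sum, map_zero] at h2
    refine Fintype.linearIndependent_iff.1 bb.linearIndependent (fun i => residue A (ψ (c i))) ?_
    rw [← h2]
    refine Finset.sum_congr rfl fun i _ => ?_
    rw [map_smul, hb i, ← IsScalarTower.algebraMap_smul (ResidueField A) (ψ (c i)) (bb i)]
    rfl
  rw [← hc, sq]
  refine sum_mem fun i _ => Ideal.mul_mem_mul ?_ ?_
  · rw [mem_maximalIdeal, mem_nonunits_iff]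
    exact fun hu => (residue_ne_zero_iff_isUnit _).2 (hu.map ψ) (hc0 i)
  · rw [PSLib.maximalIdeal_eq_vars]
    exact Ideal.subset_span ⟨i, rfl⟩

/-- Normalization of complete local domains over a field with finite residue extension. -/
theorem exists_normalization {k₀ A : Type u} [Field k₀] [CommRing A] [IsDomain A] [IsLocalRing A] [IsNoetherianRing A]
    [IsAdicComplete (maximalIdeal A) A] [Algebra k₀ A] [Module.Finite k₀ (ResidueField A)] :
    ∃ (n : ℕ) (w : MvPowerSeries (Fin n) k₀ →ₐ[k₀] A), Function.Injective w ∧ IsLocalHom w.toRingHom ∧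
      w.toRingHom.Finite := by
  classical
  obtain ⟨e, t, ht, hdim, hrad⟩ := CohenLib.exists_fin_sop A
  obtain ⟨ψ, hψ⟩ := PSLib.exists_algHom (R := k₀) (maximalIdeal A) t ht
  have hmap : (PSLib.vars e k₀).map ψ.toRingHom = Ideal.span (Set.range t) := by
    rw [PSLib.vars, Ideal.map_span, ← Set.range_comp]
    exact congrArg (fun s => Ideal.span (Set.range s)) (funext fun i => hψ i)
  have hfin : ψ.toRingHom.Finite := by
    refine CohenLib.finite_of_complete ψ.toRingHom (PSLib.vars e k₀) ?_ ?_
    · rw [hmap, Ideal.span_le]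
      rintro _ ⟨i, rfl⟩
      exact ht i
    · rw [hmap]
      obtain ⟨N, hN⟩ := Ideal.exists_pow_le_of_le_radical_of_fg hrad (IsNoetherian.noetherian _)
      haveI : Module.Finite k₀ (A ⧸ maximalIdeal A) := ‹Module.Finite k₀ (ResidueField A)›
      haveI := Adic7.finite_quotient_pow k₀ A (maximalIdeal A) N
      haveI : Module.Finite k₀ (A ⧸ Ideal.span (Set.range t)) :=
        Module.Finite.of_surjective ((Ideal.Quotient.factorₐ k₀ hN).toLinearMap) (Ideal.Quotient.factor_surjective hN)
      have h3 : (((Ideal.Quotient.mk (Ideal.span (Set.range t))).comp ψ.toRingHom).comp (algebraMap k₀ _)) =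
          algebraMap k₀ (A ⧸ Ideal.span (Set.range t)) := RingHom.ext fun c => by
        rw [RingHom.comp_apply, RingHom.comp_apply]
        exact congrArg _ (ψ.commutes c)
      exact RingHom.Finite.of_comp_finite (h3 ▸ RingHom.finite_algebraMap.2 inferInstance)
  have hloc : IsLocalHom ψ.toRingHom := ((local_hom_TFAE _).out 0 2).2 (by
    rw [PSLib.maximalIdeal_eq_vars, hmap, Ideal.span_le]
    rintro _ ⟨i, rfl⟩
    exact ht i)
  haveI : IsDomain (MvPowerSeries (Fin e) k₀) := NoZeroDivisors.to_isDomain _
  exact ⟨e, ψ, CohenLib.injective_of_finite ψ.toRingHom hfin hdim (PSLib.ringKrullDim_eq k₀ e).le, hloc, hfin⟩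

end Groth.Agent.Cohen4
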